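import Groth.Agent.Lib.Ferrand.Flatness
import Mathlib.RingTheory.RingHom.Flat
import Mathlib.RingTheory.Ideal.Quotient.Operations

/-!
# Ferrand squares and powers of the conductor ideal
-/

set_option autoImplicit false
set_option maxHeartbeats 1000000

universe u

open Groth.Agent.Lib.Ferrand

namespace Groth.Agent.H22.Pinch14099

section Sq

variable {R B A' A : Type u} [CommRing R] [CommRing B] [CommRing A'] [CommRing A]
  {r : R →+* B} {s : R →+* A'} {q : B →+* A} {p : A' →+* A}

theorem mem_ker_right (h : IsSq r s q p) {x : R} (hx : x ∈ RingHom.ker r) : s x ∈ RingHom.ker p := by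
  rw [RingHom.mem_ker] at hx ⊢
  rw [← h.comm, hx, map_zero]

theorem eq_of_mem_ker (h : IsSq r s q p) {x y : R} (hx : x ∈ RingHom.ker r) (hy : y ∈ RingHom.ker r)
    (e : s x = s y) : x = y :=
  h.ext x y ((RingHom.mem_ker.1 hx).trans (RingHom.mem_ker.1 hy).symm) e

theorem map_ker (h : IsSq r s q p) : (RingHom.ker r).map s = RingHom.ker p := by
  refine le_antisymm (Ideal.map_le_iff_le_comap.2 fun x hx => mem_ker_right h hx) fun y hy => ?_
  obtain ⟨x, hx, rfl⟩ := h.exists_of_mem_ker hy
  exact Ideal.mem_map_of_mem _ hx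

theorem exists_pow (h : IsSq r s q p) :
    ∀ n : ℕ, ∀ y ∈ (RingHom.ker p) ^ (n + 1), ∃ x ∈ (RingHom.ker r) ^ (n + 1), s x = y := by
  intro n
  induction n with
  | zero =>
    intro y hy
    rw [pow_one] at hy
    obtain ⟨x, hx, rfl⟩ := h.exists_of_mem_ker hy
    exact ⟨x, by rw [pow_one]; exact hx, rfl⟩
  | succ n ih =>
    intro y hy
    rw [pow_succ] at hy
    refine Submodule.mul_induction_on hy (fun a ha b hb => ?_) fun a b ha hb => ?_
    · obtain ⟨x, hx, rfl⟩ := ih a ha
      obtain ⟨z, hz, rfl⟩ := h.exists_of_mem_ker hb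
      exact ⟨x * z, by rw [pow_succ]; exact Ideal.mul_mem_mul hx hz, map_mul s x z⟩
    · obtain ⟨x, hx, rfl⟩ := ha
      obtain ⟨z, hz, rfl⟩ := hb
      exact ⟨x + z, add_mem hx hz, map_add s x z⟩

/-- Powers of the conductor again give a Ferrand square. -/
theorem quotient_pow (h : IsSq r s q p) (n : ℕ) :
    IsSq (Ideal.Quotient.lift ((RingHom.ker r) ^ (n + 1)) r
        fun x hx => RingHom.mem_ker.1 (Ideal.pow_le_self (by omega) hx))
      (Ideal.quotientMap ((RingHom.ker p) ^ (n + 1)) s (by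
        rw [← Ideal.map_le_iff_le_comap, Ideal.map_pow, map_ker h]))
      q
      (Ideal.Quotient.lift ((RingHom.ker p) ^ (n + 1)) p
        fun x hx => RingHom.mem_ker.1 (Ideal.pow_le_self (by omega) hx)) := by
  refine ⟨fun x => ?_, fun a => ?_, fun x y h₁ h₂ => ?_, fun b a hba => ?_⟩
  · obtain ⟨x, rfl⟩ := Ideal.Quotient.mk_surjective x
    simpa using h.comm x
  · obtain ⟨a', rfl⟩ := h.surj a
    exact ⟨Ideal.Quotient.mk _ a', by simp⟩
  · obtain ⟨x, rfl⟩ := Ideal.Quotient.mk_surjective x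
    obtain ⟨y, rfl⟩ := Ideal.Quotient.mk_surjective y
    simp only [Ideal.Quotient.lift_mk] at h₁
    rw [Ideal.quotientMap_mk, Ideal.quotientMap_mk, Ideal.Quotient.eq, ← map_sub] at h₂
    obtain ⟨z, hz, hzs⟩ := exists_pow h n _ h₂
    rw [Ideal.Quotient.eq]
    rwa [eq_of_mem_ker h (x := x - y) (y := z) (by rw [RingHom.mem_ker, map_sub, h₁, sub_self])
      (Ideal.pow_le_self (by omega) hz) hzs.symm]
  · obtain ⟨a, rfl⟩ := Ideal.Quotient.mk_surjective a
    simp only [Ideal.Quotient.lift_mk] at hba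
    obtain ⟨x, hx, hx'⟩ := h.lift b a hba
    exact ⟨Ideal.Quotient.mk _ x, by simpa using hx, by simp [hx']⟩

/-- Homomorphisms under which the conductor becomes invertible extend uniquely. -/
theorem existsUnique_hom (h : IsSq r s q p) {E : Type u} [CommRing E] (φ : R →+* E) (a : R)
    (ha : a ∈ RingHom.ker r) (he : φ a ∈ nonZeroDivisors E)
    (hspan : (RingHom.ker r).map φ = Ideal.span {φ a}) :
    ∃! ψ : A' →+* E, ψ.comp s = φ := by
  have h1 : ∀ x : A', ∃ c ∈ RingHom.ker r, s c = x * s a := fun x => by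
    obtain ⟨c, hc, e⟩ := h.exists_of_mem_ker (a := x * s a) (RingHom.mem_ker.1
      ((RingHom.ker p).mul_mem_left x (mem_ker_right h ha)))
    exact ⟨c, hc, e⟩
  choose c hc hcs using h1
  have h2 : ∀ x, ∃ d, d * φ a = φ (c x) := fun x =>
    Ideal.mem_span_singleton'.1 (hspan ▸ Ideal.mem_map_of_mem φ (hc x))
  choose d hd using h2
  have hone : c 1 = a := eq_of_mem_ker h (hc 1) ha (by rw [hcs, one_mul])
  have hzero : c 0 = 0 := eq_of_mem_ker h (hc 0) (zero_mem _) (by rw [hcs, zero_mul, map_zero])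
  have hadd : ∀ x y, c (x + y) = c x + c y := fun x y =>
    eq_of_mem_ker h (hc _) (add_mem (hc x) (hc y)) (by rw [hcs, map_add, hcs, hcs, add_mul])
  have hmul : ∀ x y, a * c (x * y) = c x * c y := fun x y =>
    eq_of_mem_ker h ((RingHom.ker r).mul_mem_left a (hc _)) ((RingHom.ker r).mul_mem_left _ (hc y))
      (by rw [map_mul, hcs, map_mul, hcs, hcs]; ring)
  have hc' : ∀ z, c (s z) = z * a := fun z =>
    eq_of_mem_ker h (hc _) ((RingHom.ker r).mul_mem_left z ha) (by rw [hcs, map_mul])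
  have cancel : ∀ {u v : E}, u * φ a = v * φ a → u = v := fun {u v} e =>
    (mul_cancel_right_mem_nonZeroDivisors he).1 e
  let ψ : A' →+* E :=
    { toFun := d
      map_one' := cancel (by rw [hd, hone, one_mul])
      map_zero' := cancel (by rw [hd, hzero, map_zero, zero_mul])
      map_add' := fun x y => cancel (by rw [hd, hadd, map_add, add_mul, hd, hd])
      map_mul' := fun x y => cancel (cancel (by
        rw [mul_assoc, mul_assoc, ← mul_assoc (d (x * y)), hd, mul_comm _ (φ a), ← map_mul, hmul, map_mul,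
          ← hd, ← hd]
        ring)) }
  refine ⟨ψ, RingHom.ext fun z => cancel ?_, fun ψ' hψ' => RingHom.ext fun x => cancel ?_⟩
  · show d (s z) * φ a = φ z * φ a
    rw [hd, hc', map_mul]
  · show ψ' x * φ a = d x * φ a
    rw [hd, ← hψ', RingHom.comp_apply, RingHom.comp_apply, hcs, map_mul]

end Sq

/-- An extension of flat modules is flat. -/
theorem flat_of_extension {K M N Q : Type u} [CommRing K] [AddCommGroup M] [AddCommGroup N]
    [AddCommGroup Q] [Module K M] [Module K N] [Module K Q] [Module.Flat K M] [Module.Flat K Q]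
    (f : M →ₗ[K] N) (g : N →ₗ[K] Q) (hf : Function.Injective f) (hg : Function.Surjective g)
    (hex : Function.Exact f g) : Module.Flat K N := by
  refine Module.Flat.iff_rTensor_preserves_injective_linearMap.mpr ?_
  intro A B _ _ _ _ φ hφ
  have hA := lTensor_exact A hex hg
  have hfB : Function.Injective (f.lTensor B) :=
    LinearMap.lTensor_injective_of_exact_of_flat g hg f hf hex B
  have hMφ := Module.Flat.rTensor_preserves_injective_linearMap (M := M) φ hφ
  have hQφ := Module.Flat.rTensor_preserves_injective_linearMap (M := Q) φ hφ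
  rw [injective_iff_map_eq_zero]
  intro x hx
  have : g.lTensor A x = 0 := hQφ (by
    rw [map_zero, ← LinearMap.comp_apply, LinearMap.rTensor_comp_lTensor, ← LinearMap.lTensor_comp_rTensor,
      LinearMap.comp_apply, hx, map_zero])
  obtain ⟨w, rfl⟩ := (hA x).1 this
  have : w = 0 := hMφ (hfB (by
    rw [map_zero, map_zero, ← LinearMap.comp_apply, LinearMap.lTensor_comp_rTensor,
      ← LinearMap.rTensor_comp_lTensor, LinearMap.comp_apply, hx]))
  rw [this, map_zero]

/-- Flatness of the quotients by the powers of a principal ideal generated by a nonzerodivisor. -/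
theorem flat_quotient_pow {K B : Type u} [CommRing K] [CommRing B] (κ : K →+* B) {t : B}
    (ht : t ∈ nonZeroDivisors B) (h1 : ((Ideal.Quotient.mk (Ideal.span {t})).comp κ).Flat) :
    ∀ n : ℕ, ((Ideal.Quotient.mk ((Ideal.span {t}) ^ (n + 1))).comp κ).Flat := by
  intro n
  induction n with
  | zero => rw [zero_add, pow_one]; exact h1
  | succ n ih =>
    letI := κ.toAlgebra
    haveI : Module.Flat K (B ⧸ Ideal.span {t}) := RingHom.flat_algebraMap_iff.1 h1
    haveI : Module.Flat K (B ⧸ (Ideal.span {t}) ^ (n + 1)) := RingHom.flat_algebraMap_iff.1 ih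
    refine RingHom.flat_algebraMap_iff.2 ?_
    have hI : ∀ m : ℕ, ∀ x : B, x ∈ (Ideal.span {t}) ^ m ↔ ∃ y, y * t ^ m = x := fun m x => by
      rw [Ideal.span_singleton_pow, Ideal.mem_span_singleton']
    have hle : (Ideal.span {t}) ^ (n + 1) ≤
        Submodule.comap (LinearMap.mulRight B t) ((Ideal.span {t}) ^ (n + 2)) := fun x hx => by
      obtain ⟨y, rfl⟩ := (hI _ x).1 hx
      show y * t ^ (n + 1) * t ∈ (Ideal.span {t}) ^ (n + 2)
      exact (hI _ _).2 ⟨y, by ring⟩
    have hle' : (Ideal.span {t}) ^ (n + 2) ≤ Submodule.comap LinearMap.id (Ideal.span {t}) :=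
      fun x hx => Ideal.pow_le_self (by omega) hx
    let f₀ : (B ⧸ (Ideal.span {t}) ^ (n + 1)) →ₗ[B] (B ⧸ (Ideal.span {t}) ^ (n + 2)) :=
      Submodule.mapQ _ _ (LinearMap.mulRight B t) hle
    let g₀ : (B ⧸ (Ideal.span {t}) ^ (n + 2)) →ₗ[B] (B ⧸ Ideal.span {t}) :=
      Submodule.mapQ _ _ LinearMap.id hle'
    let f := f₀.restrictScalars K
    let g := g₀.restrictScalars K
    refine flat_of_extension f g ?_ ?_ ?_
    · rw [injective_iff_map_eq_zero]
      intro x hx
      obtain ⟨x, rfl⟩ := Ideal.Quotient.mk_surjective x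
      have hx' : x * t ∈ (Ideal.span {t}) ^ (n + 2) := Ideal.Quotient.eq_zero_iff_mem.1 hx
      obtain ⟨y, hy⟩ := (hI _ _).1 hx'
      refine Ideal.Quotient.eq_zero_iff_mem.2 ((hI _ _).2 ⟨y, ?_⟩)
      exact (mul_cancel_right_mem_nonZeroDivisors ht).1 (by rw [← hy]; ring)
    · intro x
      obtain ⟨x, rfl⟩ := Ideal.Quotient.mk_surjective x
      exact ⟨Ideal.Quotient.mk _ x, rfl⟩
    · intro x
      obtain ⟨x, rfl⟩ := Ideal.Quotient.mk_surjective x
      constructor
      · intro hx
        obtain ⟨y, rfl⟩ := Ideal.mem_span_singleton'.1 (Ideal.Quotient.eq_zero_iff_mem.1 hx)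
        exact ⟨Ideal.Quotient.mk _ y, rfl⟩
      · rintro ⟨y, hy⟩
        obtain ⟨y, rfl⟩ := Ideal.Quotient.mk_surjective y
        refine Ideal.Quotient.eq_zero_iff_mem.2 ?_
        have : y * t - x ∈ (Ideal.span {t}) ^ (n + 2) := Ideal.Quotient.eq.1 hy
        have h' := Ideal.pow_le_self (by omega) this
        have ht' : y * t ∈ Ideal.span {t} := Ideal.mul_mem_left _ _ (Ideal.mem_span_singleton_self t)
        simpa using sub_mem ht' h'

end Groth.Agent.H22.Pinch14099
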